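import Mathlib.CategoryTheory.Monoidal.Cartesian.GrpLimits
import Mathlib.CategoryTheory.Monoidal.Internal.Limits
import Mathlib.CategoryTheory.WithTerminal.Lemmas
import Groth.Agent.Limits.Stalk
import Groth.Agent.Limits.Topology
import Groth.Agent.Limits.RelApproxCor

/-!
# Limits of affine flat surjective morphisms, limits of group objects
-/

set_option autoImplicit false
set_option backward.isDefEq.respectTransparency.types false

universe u

open CategoryTheory CategoryTheory.Limits MonoidalCategory CartesianMonoidalCategory AlgebraicGeometry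

noncomputable section

namespace Groth.TorsLimit

variable {X : Scheme.{u}} {I : Type u} [SmallCategory I] [IsCofiltered I]

/-- A cofiltered limit of affine flat surjective schemes over `X` is affine, flat and surjective. -/
theorem props_of_isLimit (D : I ⥤ Over X) (hA : ∀ i, IsAffineHom (D.obj i).hom)
    (hF : ∀ i, Flat (D.obj i).hom) (hS : ∀ i, Surjective (D.obj i).hom) {c : Cone D} (hc : IsLimit c) :
    IsAffineHom c.pt.hom ∧ Flat c.pt.hom ∧ Surjective c.pt.hom := by
  have : IsConnected I := IsCofiltered.isConnected I
  let hl : IsLimit ((Over.forget X).mapCone c) := isLimitOfPreserves (Over.forget X) hc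
  let E : WithTerminal I ⥤ Scheme.{u} := WithTerminal.lift (Z := X) (D ⋙ Over.forget X)
    (fun i => (D.obj i).hom) (fun _ _ f => Over.w (D.map f))
  let e : Cone E :=
    { pt := c.pt.left
      π :=
        { app := fun j => match j with
            | .of i => (c.π.app i).left
            | .star => c.pt.hom
          naturality := by
            rintro (i | _) (j | _) f
            · exact (Category.id_comp _).trans ((congrArg CommaMorphism.left (c.w f)).symm)
            · exact (Category.id_comp _).trans (Over.w (c.π.app i)).symm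
            · exact PEmpty.elim f
            · exact (Category.id_comp _).trans (Category.comp_id _).symm } }
  let restr (s : Cone E) : Cone (D ⋙ Over.forget X) := ⟨s.pt,
        { app := fun i => s.π.app (.of i)
          naturality := fun i j f =>
            s.π.naturality (show (WithTerminal.of i) ⟶ (WithTerminal.of j) from f) }⟩
  have hw : ∀ i, (c.π.app i).left ≫ (D.obj i).hom = c.pt.hom := fun i => Over.w (c.π.app i)
  let he : IsLimit e :=
    { lift := fun s => hl.lift (restr s)
      fac := by
        rintro s (i | _)
        · exact hl.fac (restr s) i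
        · obtain ⟨i⟩ := IsCofiltered.nonempty (C := I)
          show hl.lift (restr s) ≫ c.pt.hom = _
          refine ((congrArg (fun z => hl.lift (restr s) ≫ z) (hw i).symm).trans (Category.assoc _ _ _).symm).trans ?_
          refine (congrArg (fun z => z ≫ (D.obj i).hom) (hl.fac (restr s) i)).trans ?_
          exact s.w (WithTerminal.homFrom i)
      uniq := fun s m hm => hl.hom_ext fun i => (hm (.of i)).trans (hl.fac (restr s) i).symm }
  have hEA : ∀ (i j : WithTerminal I) (f : i ⟶ j), IsAffineHom (E.map f) := by
    rintro (i | _) (j | _) f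
    · have : IsAffineHom ((D.map f).left ≫ (D.obj j).hom) := by rw [Over.w]; exact hA i
      have := hA j
      exact IsAffineHom.of_comp (D.map f).left (D.obj j).hom
    · exact hA i
    · exact PEmpty.elim f
    · exact inferInstanceAs (IsAffineHom (𝟙 X))
  refine ⟨isAffineHom_π_app E e he WithTerminal.star, ?_, ⟨?_⟩⟩
  · exact Groth.Limits.flat_π E e he (i := WithTerminal.star) fun j φ => by
      rcases j with i | _
      · exact hF i
      · exact inferInstanceAs (Flat (𝟙 X))
  · intro x
    have h : x ∈ Set.range (e.π.app WithTerminal.star) := by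
      rw [Groth.Limits.range_π E e he]
      refine Set.mem_iInter₂.mpr fun j φ => ?_
      rcases j with i | _
      · exact (hS i).surj x
      · exact ⟨x, rfl⟩
    exact h

section Grp

variable {C : Type*} [Category C] [CartesianMonoidalCategory C] {J : Type*} [Category J]

open MonObj GrpObj

/-- The forgetful functor from group objects preserves limits which exist in the ambient category. -/
theorem preservesLimit_forget (F : J ⥤ Grp C) [HasLimit (F ⋙ Grp.forget C)] :
    PreservesLimit F (Grp.forget C) := by
  let c₀ : Cone ((F ⋙ Grp.forget₂Mon C) ⋙ Mon.forget C) := limit.cone (F ⋙ Grp.forget C)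
  let hc₀ : IsLimit c₀ := limit.isLimit (F ⋙ Grp.forget C)
  let M : Mon C := Mon.limit (F ⋙ Grp.forget₂Mon C) c₀ hc₀
  let π (j : J) : M.X ⟶ (F.obj j).X := c₀.π.app j
  have hπ (j : J) : IsMonHom (π j) :=
    ((Mon.limitCone (F ⋙ Grp.forget₂Mon C) c₀ hc₀).π.app j).isMonHom_hom
  let cf (A : C) (f : A ⟶ M.X) : Cone ((F ⋙ Grp.forget₂Mon C) ⋙ Mon.forget C) :=
    { pt := A
      π :=
        { app := fun j => (show A ⟶ (F.obj j).X from (f ≫ π j)⁻¹)
          naturality := fun i j φ => by
            show 𝟙 A ≫ (f ≫ π j)⁻¹ = (f ≫ π i)⁻¹ ≫ (F.map φ).hom.hom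
            rw [Category.id_comp, GrpObj.inv_comp, Category.assoc]
            congr 2
            exact (c₀.w φ).symm } }
  let inv' (A : C) (f : A ⟶ M.X) : A ⟶ M.X := hc₀.lift (cf A f)
  have hinv (A : C) (f : A ⟶ M.X) (j : J) : inv' A f ≫ π j = (f ≫ π j)⁻¹ := hc₀.fac (cf A f) j
  let Ginv (A : C) (f : A ⟶ M.X) : Invertible f :=
    { invOf := inv' A f
      invOf_mul_self := hc₀.hom_ext fun j => by
        show (inv' A f * f) ≫ π j = (1 : A ⟶ M.X) ≫ π j
        rw [MonObj.mul_comp, hinv, MonObj.one_comp, inv_mul_cancel]
      mul_invOf_self := hc₀.hom_ext fun j => by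
        show (f * inv' A f) ≫ π j = (1 : A ⟶ M.X) ≫ π j
        rw [MonObj.mul_comp, hinv, MonObj.one_comp, mul_inv_cancel] }
  letI : GrpObj M.X := GrpObj.ofInvertible M.X Ginv
  let c₁ : Cone F :=
    { pt := ⟨M.X⟩
      π :=
        { app := fun j => Grp.homMk' ((Mon.limitCone (F ⋙ Grp.forget₂Mon C) c₀ hc₀).π.app j)
          naturality := fun i j φ => (Grp.forget₂Mon C).map_injective
            ((Mon.limitCone (F ⋙ Grp.forget₂Mon C) c₀ hc₀).π.naturality φ) } }
  have hc₁ : IsLimit c₁ := isLimitOfReflects (Grp.forget₂Mon C)
    (Mon.limitConeIsLimit (F ⋙ Grp.forget₂Mon C) c₀ hc₀)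
  exact preservesLimit_of_preserves_limit_cone hc₁ hc₀

end Grp

end Groth.TorsLimit

end
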